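import Cfsg.Agent.Lib.H17.M22M.MonoTw

set_option autoImplicit false
set_option maxRecDepth 100000

/-! # The relations among the twist symbols (generated) -/

namespace Cfsg.Agent.Lib.H6.McLM.Cert

open Cfsg.Agent.Lib.H17.MonoCert

/-- the relation vectors -/
def relV : List (List ℤ) := [[0, 0, 0, -1], [1, 1, -1, -1], [1, -1, 0, -1], [1, -1, -1, -5], [-19, 0, 5, -4]]

theorem rel_alg_add {M : Type*} [AddCommGroup M] (a0 a1 a2 a3 : M)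
    (h0 : (0 : ℤ) • a0 + ((0 : ℤ) • a1 + ((0 : ℤ) • a2 + ((-1 : ℤ) • a3 + 0))) = 0)
    (h1 : (1 : ℤ) • a0 + ((1 : ℤ) • a1 + ((-1 : ℤ) • a2 + ((-1 : ℤ) • a3 + 0))) = 0)
    (h2 : (1 : ℤ) • a0 + ((-1 : ℤ) • a1 + ((0 : ℤ) • a2 + ((-1 : ℤ) • a3 + 0))) = 0)
    (h3 : (1 : ℤ) • a0 + ((-1 : ℤ) • a1 + ((-1 : ℤ) • a2 + ((-5 : ℤ) • a3 + 0))) = 0)
    (h4 : (-19 : ℤ) • a0 + ((0 : ℤ) • a1 + ((5 : ℤ) • a2 + ((-4 : ℤ) • a3 + 0))) = 0)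
    : (1 : ℤ) • a0 + ((0 : ℤ) • a1 + ((0 : ℤ) • a2 + ((0 : ℤ) • a3 + 0))) = 0 ∧
      (0 : ℤ) • a0 + ((1 : ℤ) • a1 + ((0 : ℤ) • a2 + ((0 : ℤ) • a3 + 0))) = 0 ∧
      (0 : ℤ) • a0 + ((0 : ℤ) • a1 + ((1 : ℤ) • a2 + ((0 : ℤ) • a3 + 0))) = 0 ∧
      (0 : ℤ) • a0 + ((0 : ℤ) • a1 + ((0 : ℤ) • a2 + ((1 : ℤ) • a3 + 0))) = 0 ∧
      True := by
  refine ⟨?_, ?_, ?_, ?_, ?_⟩
  · linear_combination (norm := module) (6 : ℤ) • h0 + (-9 : ℤ) • h1 + (-13 : ℤ) • h2 + (4 : ℤ) • h3 + (-1 : ℤ) • h4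
  · linear_combination (norm := module) (-3 : ℤ) • h0 + (10 : ℤ) • h1 + (14 : ℤ) • h2 + (-5 : ℤ) • h3 + (1 : ℤ) • h4
  · linear_combination (norm := module) (4 : ℤ) • h0 + (1 : ℤ) • h2 + (-1 : ℤ) • h3
  · linear_combination (norm := module) (-1 : ℤ) • h0
  · trivial

theorem rel_alg {A : Type*} [CommGroup A] (z0 z1 z2 z3 : A)
    (h0 : ltw [z0, z1, z2, z3] [0, 0, 0, -1] = 1)
    (h1 : ltw [z0, z1, z2, z3] [1, 1, -1, -1] = 1)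
    (h2 : ltw [z0, z1, z2, z3] [1, -1, 0, -1] = 1)
    (h3 : ltw [z0, z1, z2, z3] [1, -1, -1, -5] = 1)
    (h4 : ltw [z0, z1, z2, z3] [-19, 0, 5, -4] = 1)
    : ltw [z0, z1, z2, z3] [1, 0, 0, 0] = 1 ∧
      ltw [z0, z1, z2, z3] [0, 1, 0, 0] = 1 ∧
      ltw [z0, z1, z2, z3] [0, 0, 1, 0] = 1 ∧
      ltw [z0, z1, z2, z3] [0, 0, 0, 1] = 1 ∧
      True := by
  have key := rel_alg_add (M := Additive A) (Additive.ofMul z0) (Additive.ofMul z1) (Additive.ofMul z2) (Additive.ofMul z3)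
    (by
      have h : z0 ^ (0 : ℤ) * (z1 ^ (0 : ℤ) * (z2 ^ (0 : ℤ) * (z3 ^ (-1 : ℤ) * 1))) = 1 := h0
      have := congrArg Additive.ofMul h
      simpa only [ofMul_mul, ofMul_zpow, ofMul_one] using this)
    (by
      have h : z0 ^ (1 : ℤ) * (z1 ^ (1 : ℤ) * (z2 ^ (-1 : ℤ) * (z3 ^ (-1 : ℤ) * 1))) = 1 := h1
      have := congrArg Additive.ofMul h
      simpa only [ofMul_mul, ofMul_zpow, ofMul_one] using this)
    (by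
      have h : z0 ^ (1 : ℤ) * (z1 ^ (-1 : ℤ) * (z2 ^ (0 : ℤ) * (z3 ^ (-1 : ℤ) * 1))) = 1 := h2
      have := congrArg Additive.ofMul h
      simpa only [ofMul_mul, ofMul_zpow, ofMul_one] using this)
    (by
      have h : z0 ^ (1 : ℤ) * (z1 ^ (-1 : ℤ) * (z2 ^ (-1 : ℤ) * (z3 ^ (-5 : ℤ) * 1))) = 1 := h3
      have := congrArg Additive.ofMul h
      simpa only [ofMul_mul, ofMul_zpow, ofMul_one] using this)
    (by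
      have h : z0 ^ (-19 : ℤ) * (z1 ^ (0 : ℤ) * (z2 ^ (5 : ℤ) * (z3 ^ (-4 : ℤ) * 1))) = 1 := h4
      have := congrArg Additive.ofMul h
      simpa only [ofMul_mul, ofMul_zpow, ofMul_one] using this)
  obtain ⟨k0, k1, k2, k3, -⟩ := key
  refine ⟨?_, ?_, ?_, ?_, ?_⟩
  · change z0 ^ (1 : ℤ) * (z1 ^ (0 : ℤ) * (z2 ^ (0 : ℤ) * (z3 ^ (0 : ℤ) * 1))) = 1
    apply Additive.ofMul.injective
    simpa only [ofMul_mul, ofMul_zpow, ofMul_one] using k0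
  · change z0 ^ (0 : ℤ) * (z1 ^ (1 : ℤ) * (z2 ^ (0 : ℤ) * (z3 ^ (0 : ℤ) * 1))) = 1
    apply Additive.ofMul.injective
    simpa only [ofMul_mul, ofMul_zpow, ofMul_one] using k1
  · change z0 ^ (0 : ℤ) * (z1 ^ (0 : ℤ) * (z2 ^ (1 : ℤ) * (z3 ^ (0 : ℤ) * 1))) = 1
    apply Additive.ofMul.injective
    simpa only [ofMul_mul, ofMul_zpow, ofMul_one] using k2
  · change z0 ^ (0 : ℤ) * (z1 ^ (0 : ℤ) * (z2 ^ (0 : ℤ) * (z3 ^ (1 : ℤ) * 1))) = 1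
    apply Additive.ofMul.injective
    simpa only [ofMul_mul, ofMul_zpow, ofMul_one] using k3
  · trivial

end Cfsg.Agent.Lib.H6.McLM.Cert
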